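import Groth.Prelude.Def_EtGm
import Groth.Prelude.Def_EtBC2
import Groth.Agent.EtaleSite.Pull
import Groth.Agent.PunctLib.Points
import Mathlib.AlgebraicGeometry.Morphisms.Etale
import Mathlib.RingTheory.Flat.Basic
import Mathlib.RingTheory.Smooth.Flat
import Mathlib.RingTheory.Localization.FractionRing

/-!
# Units on affine etale schemes over a domain and on their generic fibres
-/

set_option autoImplicit false

universe u

open CategoryTheory CategoryTheory.Limits AlgebraicGeometry Opposite TensorProduct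

noncomputable section

namespace Groth.Agent.EtGmUFD

variable (A : Type u) [CommRing A]

/-- The spectrum of `A`. -/
abbrev XA : Scheme.{u} := Spec (CommRingCat.of A)

/-- An etale algebra as an etale scheme. -/
def obj (R : Type u) [CommRing R] [Algebra A R] [Algebra.Etale A R] : (XA A).Etale :=
  have : Etale (Spec.map (CommRingCat.ofHom (algebraMap A R))) := by
    rw [HasRingHomProperty.Spec_iff (P := @Etale)]
    exact RingHom.etale_algebraMap.2 inferInstance
  Scheme.Etale.mk (Spec.map (CommRingCat.ofHom (algebraMap A R)))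

variable {A}

/-- An algebra map as a morphism of etale schemes. -/
def objHom {R S : Type u} [CommRing R] [Algebra A R] [Algebra.Etale A R] [CommRing S] [Algebra A S]
    [Algebra.Etale A S] (e : R →ₐ[A] S) : obj A S ⟶ obj A R :=
  MorphismProperty.Over.homMk (Spec.map (CommRingCat.ofHom e.toRingHom)) (by
    show Spec.map _ ≫ Spec.map _ = Spec.map _
    rw [← Spec.map_comp, ← CommRingCat.ofHom_comp, AlgHom.toRingHom_eq_coe, e.comp_algebraMap])

/-- Every point of an etale scheme over `A` is in an affine piece. -/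
theorem exists_affine (V : (XA A).Etale) (v : V.left) :
    ∃ (R : Type u) (_ : CommRing R) (_ : Algebra A R) (_ : Algebra.Etale A R) (e : obj A R ⟶ V)
      (w : (obj A R).left), e.left w = v := by
  obtain ⟨O, hO, hv, -⟩ := exists_isAffineOpen_mem_and_subset (x := v) (U := ⊤) trivial
  let R := Γ(V.left, O)
  let g : Spec R ⟶ XA A := hO.fromSpec ≫ (V.hom : V.left ⟶ XA A)
  obtain ⟨φ, hφ⟩ := Spec.map_surjective g
  let _ : Algebra A R := φ.hom.toAlgebra
  have hg : Etale g := inferInstance
  have : Algebra.Etale A R := by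
    rw [← hφ, HasRingHomProperty.Spec_iff (P := @Etale)] at hg
    exact hg
  obtain ⟨w, hw⟩ := hO.range_fromSpec.ge hv
  exact ⟨R, inferInstance, inferInstance, inferInstance, MorphismProperty.Over.homMk hO.fromSpec hφ.symm, w, hw⟩

/-- A function as an element of the algebra. -/
abbrev valR {R : Type u} [CommRing R] [Algebra A R] [Algebra.Etale A R] (x : Γ((obj A R).left, ⊤)) : R :=
  (Scheme.ΓSpecIso (CommRingCat.of R)).hom x

/-- The functions on the spectrum of an algebra. -/
abbrev funR (A : Type u) [CommRing A] (R : Type u) [CommRing R] [Algebra A R] [Algebra.Etale A R] : R →+* Γ((obj A R).left, ⊤) :=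
  (Scheme.ΓSpecIso (CommRingCat.of R)).inv.hom

theorem map_funR {R S : Type u} [CommRing R] [Algebra A R] [Algebra.Etale A R] [CommRing S] [Algebra A S]
    [Algebra.Etale A S] (e : R →ₐ[A] S) (r : R) :
    (objHom e).left.appTop (funR A R r) = funR A S (e r) :=
  ConcreteCategory.congr_hom (Scheme.ΓSpecIso_inv_naturality (CommRingCat.ofHom e.toRingHom)).symm r

theorem funR_valR {R : Type u} [CommRing R] [Algebra A R] [Algebra.Etale A R] (x : Γ((obj A R).left, ⊤)) :
    funR A R (valR x) = x :=
  ConcreteCategory.congr_hom (Scheme.ΓSpecIso (CommRingCat.of R)).hom_inv_id x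

theorem valR_funR {R : Type u} [CommRing R] [Algebra A R] [Algebra.Etale A R] (r : R) :
    valR (A := A) (funR A R r) = r :=
  ConcreteCategory.congr_hom (Scheme.ΓSpecIso (CommRingCat.of R)).inv_hom_id r

variable (A) [IsDomain A]

/-- The generic point. -/
abbrev genA : Spec (CommRingCat.of (FractionRing A)) ⟶ XA A :=
  Spec.map (CommRingCat.ofHom (algebraMap A (FractionRing A)))

variable (R : Type u) [CommRing R] [Algebra A R] [Algebra.Etale A R]

/-- Restriction of functions to the generic fibre. -/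
def rho : R →+* Γ(((EtCoh.bc (genA A)).obj (obj A R)).left, ⊤) :=
  (pullback.fst (obj A R).hom (genA A) :
    ((EtCoh.bc (genA A)).obj (obj A R)).left ⟶ (obj A R).left).appTop.hom.comp (funR A R)

theorem exists_theta : ∃ θ : Γ(((EtCoh.bc (genA A)).obj (obj A R)).left, ⊤) ≃+* R ⊗[A] FractionRing A,
    ∀ r, θ (rho A R r) = r ⊗ₜ[A] 1 := by
  let T := CommRingCat.of (R ⊗[A] FractionRing A)
  let e : Spec T ≅ ((EtCoh.bc (genA A)).obj (obj A R)).left := (pullbackSpecIso A R (FractionRing A)).symm
  refine ⟨((Scheme.Γ.mapIso e.op) ≪≫ Scheme.ΓSpecIso T).commRingCatIsoToRingEquiv, fun r => ?_⟩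
  have h : e.hom ≫ (pullback.fst (obj A R).hom (genA A) : _ ⟶ (obj A R).left) =
      Spec.map (CommRingCat.ofHom Algebra.TensorProduct.includeLeftRingHom) :=
    pullbackSpecIso_inv_fst A R (FractionRing A)
  show (Scheme.ΓSpecIso T).hom (e.hom.appTop ((pullback.fst (obj A R).hom (genA A) :
    _ ⟶ (obj A R).left).appTop (funR A R r))) = _
  refine (congrArg (Scheme.ΓSpecIso T).hom
    (ConcreteCategory.congr_hom (congrArg Scheme.Hom.appTop h) (funR A R r))).trans ?_
  exact (congrArg (Scheme.ΓSpecIso T).hom (ConcreteCategory.congr_hom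
    (Scheme.ΓSpecIso_inv_naturality (CommRingCat.ofHom
      (Algebra.TensorProduct.includeLeftRingHom : R →+* R ⊗[A] FractionRing A))).symm r)).trans
    (ConcreteCategory.congr_hom (Scheme.ΓSpecIso T).inv_hom_id _)

theorem rho_injective : Function.Injective (rho A R) := by
  obtain ⟨θ, hθ⟩ := exists_theta A R
  intro a b h
  refine Algebra.TensorProduct.includeLeft_injective (R := A) (A := R) (S := A) (B := FractionRing A)
    (IsFractionRing.injective A (FractionRing A)) ?_
  show a ⊗ₜ[A] (1 : FractionRing A) = b ⊗ₜ[A] 1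
  rw [← hθ, ← hθ, h]

theorem exists_fraction (f : Γ(((EtCoh.bc (genA A)).obj (obj A R)).left, ⊤)) :
    ∃ (r : R) (a : A), a ≠ 0 ∧ f * rho A R (algebraMap A R a) = rho A R r := by
  obtain ⟨θ, hθ⟩ := exists_theta A R
  obtain ⟨z, rfl⟩ := θ.symm.surjective f
  suffices ∃ (r : R) (a : A), a ≠ 0 ∧ z * (algebraMap A R a ⊗ₜ[A] 1) = r ⊗ₜ[A] 1 by
    obtain ⟨r, a, ha, e⟩ := this
    refine ⟨r, a, ha, θ.injective ?_⟩
    rw [map_mul, hθ, hθ, RingEquiv.apply_symm_apply, e]
  induction z using TensorProduct.induction_on with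
  | zero => exact ⟨0, 1, one_ne_zero, by simp⟩
  | tmul x k =>
    obtain ⟨⟨b, a⟩, h⟩ := IsLocalization.surj (nonZeroDivisors A) k
    refine ⟨b • x, a.1, nonZeroDivisors.coe_ne_zero a, ?_⟩
    rw [Algebra.TensorProduct.tmul_mul_tmul, mul_one, ← Algebra.commutes, ← Algebra.smul_def,
      TensorProduct.smul_tmul, Algebra.smul_def, mul_comm, h, TensorProduct.smul_tmul, Algebra.smul_def,
      mul_one]
  | add p q hp hq =>
    obtain ⟨r, a, ha, e⟩ := hp
    obtain ⟨r', a', ha', e'⟩ := hq
    refine ⟨r * algebraMap A R a' + r' * algebraMap A R a, a * a', mul_ne_zero ha ha', ?_⟩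
    rw [map_mul, ← mul_one (1 : FractionRing A), ← Algebra.TensorProduct.tmul_mul_tmul, mul_one, add_mul,
      ← mul_assoc, e, mul_comm (algebraMap A R a ⊗ₜ[A] (1 : FractionRing A)), ← mul_assoc, e',
      Algebra.TensorProduct.tmul_mul_tmul, Algebra.TensorProduct.tmul_mul_tmul, mul_one,
      TensorProduct.add_tmul]

theorem map_rho {S : Type u} [CommRing S] [Algebra A S] [Algebra.Etale A S] (e : R →ₐ[A] S) (r : R) :
    ((EtCoh.bc (genA A)).map (objHom e)).left.appTop (rho A R r) = rho A S (e r) := by
  have h : ((EtCoh.bc (genA A)).map (objHom e)).left ≫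
      (pullback.fst (obj A R).hom (genA A) : _ ⟶ (obj A R).left) =
      (pullback.fst (obj A S).hom (genA A) : _ ⟶ (obj A S).left) ≫ (objHom e).left :=
    pullback.lift_fst _ _ _
  refine (ConcreteCategory.congr_hom (congrArg Scheme.Hom.appTop h) (funR A R r)).trans ?_
  exact congrArg (pullback.fst (obj A S).hom (genA A) : _ ⟶ (obj A S).left).appTop (map_funR e r)

end Groth.Agent.EtGmUFD
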